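import Mathlib.RingTheory.Ideal.AssociatedPrime.Localization
import Mathlib.RingTheory.DiscreteValuationRing.TFAE
import Mathlib.RingTheory.IntegralClosure.Algebra.Basic
import Mathlib.RingTheory.IntegralClosure.IntegrallyClosed
import Groth.Agent.Depth.Basic

/-! Elements of the fraction field that fail to be in a localization: depth-one primes. -/

open IsLocalRing
open scoped Pointwise

namespace Groth.Agent.CDivLib

universe u

variable {R : Type u} [CommRing R]

/-- If `z` is not in `R_p`, some associated prime `q ⊆ p` of a quotient by a principal ideal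
witnesses it. -/
theorem exists_prime_colon [IsDomain R] [IsNoetherianRing R] {K : Type*} [Field K] [Algebra R K]
    [IsFractionRing R K] (p : Ideal R) [p.IsPrime] (z : K)
    (hz : ∀ a b : R, b ∉ p → z * algebraMap R K b ≠ algebraMap R K a) :
    ∃ q : Ideal R, q.IsPrime ∧ q ≤ p ∧
      (∀ a b : R, b ∉ q → z * algebraMap R K b ≠ algebraMap R K a) ∧
      ∃ b c : R, b ≠ 0 ∧ b ∈ q ∧ ∀ r : R, r ∈ q ↔ r * c ∈ Ideal.span {b} := by
  obtain ⟨a, b, hb, hab⟩ := IsFractionRing.div_surjective (A := R) z
  have hb0 : b ≠ 0 := nonZeroDivisors.ne_zero hb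
  have hbK : algebraMap R K b ≠ 0 := fun h => hb0 ((map_eq_zero_iff _ (IsFractionRing.injective R K)).mp h)
  have hzb : z * algebraMap R K b = algebraMap R K a := by rw [← hab, div_mul_cancel₀ _ hbK]
  let M := R ⧸ Ideal.span {b}
  let N : Submodule R M := Submodule.span R {Submodule.Quotient.mk a}
  have hJ : ∀ r : R, r ∈ Module.annihilator R N ↔ ∃ a' : R, z * algebraMap R K r = algebraMap R K a' := by
    intro r
    rw [show Module.annihilator R N = N.annihilator from rfl, Submodule.mem_annihilator_span_singleton,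
      ← Submodule.Quotient.mk_smul, Submodule.Quotient.mk_eq_zero, Ideal.mem_span_singleton']
    constructor
    · rintro ⟨t, ht⟩
      refine ⟨t, mul_right_cancel₀ hbK ?_⟩
      rw [mul_right_comm, hzb, ← map_mul, ← map_mul, ht, smul_eq_mul, mul_comm]
    · rintro ⟨a', ha'⟩
      refine ⟨a', IsFractionRing.injective R K ?_⟩
      rw [smul_eq_mul, map_mul, map_mul, ← ha', ← hzb]
      ring
  have hle : Module.annihilator R N ≤ p := fun r hr => by
    by_contra hrp
    obtain ⟨a', ha'⟩ := (hJ r).mp hr
    exact hz a' r hrp ha'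
  obtain ⟨q, hq, hqp⟩ := Ideal.exists_minimalPrimes_le hle
  have hass := Module.associatedPrimes.minimalPrimes_annihilator_subset_associatedPrimes R N hq
  have hass' : IsAssociatedPrime q M := IsAssociatedPrime.map_of_injective N.subtype hass N.injective_subtype
  obtain ⟨hqprime, x, hx⟩ := isAssociatedPrime_iff.mp hass'
  obtain ⟨c, rfl⟩ := Submodule.Quotient.mk_surjective _ x
  refine ⟨q, hqprime, hqp, fun a' r hr h => hr (hq.1.2 ((hJ r).mpr ⟨a', h⟩)), b, c, hb0, ?_, fun r => ?_⟩
  · exact hq.1.2 ((hJ b).mpr ⟨a, hzb⟩)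
  · rw [hx, Submodule.mem_colon_singleton, Submodule.mem_bot, ← Submodule.Quotient.mk_smul,
      Submodule.Quotient.mk_eq_zero, smul_eq_mul]

/-- The localization at an associated prime of a principal quotient: an element killed by the maximal ideal. -/
theorem exists_local_colon [IsDomain R] (q : Ideal R) [q.IsPrime] (S : Type u) [CommRing S]
    [Algebra R S] [IsLocalization.AtPrime S q] [IsLocalRing S]
    {b c : R} (hb0 : b ≠ 0) (hb : b ∈ q) (hc : ∀ r : R, r ∈ q ↔ r * c ∈ Ideal.span {b}) :
    algebraMap R S b ≠ 0 ∧ algebraMap R S b ∈ maximalIdeal S ∧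
      algebraMap R S c ∉ Ideal.span {algebraMap R S b} ∧
      ∀ m ∈ maximalIdeal S, m * algebraMap R S c ∈ Ideal.span {algebraMap R S b} := by
  have hqs : q.primeCompl ≤ nonZeroDivisors R :=
    fun s hs => mem_nonZeroDivisors_of_ne_zero fun e => hs (e ▸ q.zero_mem)
  have hm : maximalIdeal S = q.map (algebraMap R S) :=
    (IsLocalization.AtPrime.map_eq_maximalIdeal q S).symm
  refine ⟨?_, hm ▸ Ideal.mem_map_of_mem _ hb, ?_, ?_⟩
  · rw [ne_eq, map_eq_zero_iff _ (IsLocalization.injective S hqs)]
    exact hb0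
  · intro h
    rw [← Set.image_singleton, ← Ideal.map_span, IsLocalization.algebraMap_mem_map_algebraMap_iff q.primeCompl] at h
    obtain ⟨s, hs, hsc⟩ := h
    exact hs ((hc s).mpr hsc)
  · intro m hmm
    rw [hm] at hmm
    have : Ideal.map (algebraMap R S) q ≤
        Submodule.comap (LinearMap.mulRight S (algebraMap R S c)) (Ideal.span {algebraMap R S b}) := by
      rw [Ideal.map_le_iff_le_comap]
      intro r hr
      obtain ⟨t, ht⟩ := Ideal.mem_span_singleton'.mp ((hc r).mp hr)
      rw [Ideal.mem_comap]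
      show algebraMap R S r * algebraMap R S c ∈ Ideal.span {algebraMap R S b}
      rw [← map_mul, ← ht, map_mul]
      exact Ideal.mul_mem_left _ _ (Ideal.mem_span_singleton_self _)
    exact this hmm

/-- An element killed by the maximal ideal modulo a nonzero principal ideal gives depth one. -/
theorem depth_eq_one [IsDomain R] [IsNoetherianRing R] [IsLocalRing R] {b c : R}
    (hb0 : b ≠ 0) (hb : b ∈ maximalIdeal R) (hc : c ∉ Ideal.span {b})
    (h : ∀ m ∈ maximalIdeal R, m * c ∈ Ideal.span {b}) : LocCoh.depth R R = 1 := by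
  have hreg : IsSMulRegular R b := fun x y hxy => mul_left_cancel₀ hb0 hxy
  have h1 := Depth.idealDepth_quotSMulTop_add_one (I := maximalIdeal R) R hb hreg
  have hsub : b • (⊤ : Submodule R R) = Ideal.span {b} := by
    rw [← Submodule.ideal_span_singleton_smul, Ideal.smul_eq_mul, Ideal.mul_top]
  let x : QuotSMulTop b R := Submodule.Quotient.mk c
  have hx : x ≠ 0 := by
    rw [ne_eq, Submodule.Quotient.mk_eq_zero, hsub]
    exact hc
  have hne : Nontrivial (QuotSMulTop b R) := ⟨⟨x, 0, hx⟩⟩
  have hass : maximalIdeal R ∈ associatedPrimes R (QuotSMulTop b R) := by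
    rw [AssociatedPrimes.mem_iff, isAssociatedPrime_iff]
    refine ⟨inferInstance, x, ?_⟩
    ext r
    rw [Submodule.mem_colon_singleton, Submodule.mem_bot, ← Submodule.Quotient.mk_smul,
      Submodule.Quotient.mk_eq_zero, hsub, smul_eq_mul]
    refine ⟨h r, fun hr => ?_⟩
    by_contra hrm
    obtain ⟨u, hu⟩ := notMem_maximalIdeal.mp hrm
    exact hc (by simpa [← hu] using Ideal.mul_mem_left _ (↑u⁻¹ : R) hr)
  have h0 : LocCoh.depth R (QuotSMulTop b R) = 0 := Depth.depth_eq_zero_iff.mpr hass
  rw [LocCoh.depth] at h0 ⊢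
  rw [← h1, h0, zero_add]

/-- A normal Noetherian local domain with an element of the punctured normalization is a DVR. -/
theorem isDVR_of_colon [IsDomain R] [IsNoetherianRing R] [IsLocalRing R] [IsIntegrallyClosed R]
    {b c : R} (hb0 : b ≠ 0) (hb : b ∈ maximalIdeal R) (hc : c ∉ Ideal.span {b})
    (h : ∀ m ∈ maximalIdeal R, m * c ∈ Ideal.span {b}) : IsDiscreteValuationRing R := by
  have hnf : ¬ IsField R := fun hF =>
    hb0 (by simpa [(IsLocalRing.isField_iff_maximalIdeal_eq).mp hF] using hb)
  refine ((IsDiscreteValuationRing.TFAE R hnf).out 0 4).mpr ?_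
  by_cases hu : ∃ r ∈ maximalIdeal R, ∃ u : Rˣ, r * c = b * u
  · obtain ⟨r, hr, u, hru⟩ := hu
    refine ⟨r, le_antisymm (fun t ht => ?_) ((Submodule.span_singleton_le_iff_mem _ _).mpr hr)⟩
    obtain ⟨s, hs⟩ := Ideal.mem_span_singleton'.mp (h t ht)
    have h2 : b * (r * s) = b * (t * u) := by
      calc b * (r * s) = r * (s * b) := by ring
        _ = r * (t * c) := by rw [hs]
        _ = t * (r * c) := by ring
        _ = t * (b * u) := by rw [hru]
        _ = b * (t * u) := by ring
    have h3 := mul_left_cancel₀ hb0 h2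
    refine Submodule.mem_span_singleton.mpr ⟨s * ↑u⁻¹, ?_⟩
    rw [smul_eq_mul, mul_right_comm, mul_comm s r, h3, mul_assoc, Units.mul_inv, mul_one]
  · exfalso
    push Not at hu
    let K := FractionRing R
    let z : K := algebraMap R K c / algebraMap R K b
    have hbK : algebraMap R K b ≠ 0 := fun e => hb0 ((map_eq_zero_iff _ (IsFractionRing.injective R K)).mp e)
    let N : Submodule R K := Submodule.map (Algebra.linearMap R K) (maximalIdeal R)
    have hN : ∀ n ∈ N, z • n ∈ N := by
      rintro _ ⟨t, ht, rfl⟩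
      obtain ⟨s, hs⟩ := Ideal.mem_span_singleton'.mp (h t ht)
      have hsm : s ∈ maximalIdeal R := by
        by_contra hsm
        obtain ⟨u, hu'⟩ := notMem_maximalIdeal.mp hsm
        exact hu t ht u (by rw [hu', ← hs, mul_comm])
      refine ⟨s, hsm, ?_⟩
      show algebraMap R K s = z * algebraMap R K t
      refine mul_right_cancel₀ hbK ?_
      rw [← map_mul, hs, mul_right_comm, div_mul_cancel₀ _ hbK, ← map_mul, mul_comm c t]
    have hNb : N ≠ ⊥ := by
      intro e
      have hmem : algebraMap R K b ∈ N := ⟨b, hb, rfl⟩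
      rw [e, Submodule.mem_bot] at hmem
      exact hbK hmem
    have hNfg : N.FG := (IsNoetherian.noetherian (maximalIdeal R)).map _
    have hint : IsIntegral R z := isIntegral_of_smul_mem_submodule N hNb hNfg z hN
    obtain ⟨d, hd⟩ := IsIntegrallyClosed.isIntegral_iff.mp hint
    refine hc (Ideal.mem_span_singleton'.mpr ⟨d, IsFractionRing.injective R K ?_⟩)
    rw [map_mul, hd, div_mul_cancel₀ _ hbK]

end Groth.Agent.CDivLib
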