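import Groth.Prelude.Def_CDiv
import Groth.Agent.CDivLib.Alg
import Mathlib.AlgebraicGeometry.Noetherian

/-! Cartier divisors on integral schemes: rational functions in local rings. -/

open CategoryTheory AlgebraicGeometry TopologicalSpace IsLocalRing

namespace Groth.Agent.CDivLib

universe u

variable (X : Scheme.{u}) [IsIntegral X]

/-- `f` lies in the local ring at `x`. -/
def InStalk (x : X) (f : ↑X.functionField) : Prop :=
  ∃ a : X.presheaf.stalk x, algebraMap (X.presheaf.stalk x) X.functionField a = f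

theorem inStalk_nhds (x : X) (f : ↑X.functionField) (h : InStalk X x f) :
    ∃ U : X.Opens, x ∈ U ∧ ∀ y ∈ U, InStalk X y f := by
  obtain ⟨a, rfl⟩ := h
  obtain ⟨U, hx, s, rfl⟩ := X.presheaf.exists_germ_eq a
  have : Nonempty U := ⟨⟨x, hx⟩⟩
  refine ⟨U, hx, fun y hy => ⟨X.presheaf.germ U y hy s, ?_⟩⟩
  rw [Scheme.algebraMap_germ_eq_germToFunctionField, Scheme.algebraMap_germ_eq_germToFunctionField]

theorem inStalk_of_specializes {x y : X} (h : y ⤳ x) {f : ↑X.functionField} (hf : InStalk X x f) :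
    InStalk X y f := by
  obtain ⟨U, hx, hU⟩ := inStalk_nhds X x f hf
  exact hU y (h.mem_open U.2 hx)

theorem inStalk_genericPoint (f : ↑X.functionField) : InStalk X (genericPoint X) f := by
  refine ⟨f, ?_⟩
  rw [RingHom.algebraMap_toAlgebra]
  simp

theorem mem_stalkUnits_iff {x : X} {f : CDiv.KUnits X} :
    f ∈ CDiv.stalkUnits X x ↔ InStalk X x f ∧ InStalk X x ↑f⁻¹ := by
  constructor
  · rintro ⟨u, rfl⟩
    exact ⟨⟨u, rfl⟩, ⟨↑u⁻¹, rfl⟩⟩
  · rintro ⟨⟨a, ha⟩, b, hb⟩
    have hab : a * b = 1 := by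
      apply IsFractionRing.injective (X.presheaf.stalk x) X.functionField
      rw [map_mul, ha, hb, map_one, Units.mul_inv]
    exact ⟨⟨a, b, hab, by rwa [mul_comm]⟩, Units.ext ha⟩

theorem germOf_eq_one_iff {x : X} {f : CDiv.KUnits X} :
    CDiv.germOf X x f = 1 ↔ InStalk X x f ∧ InStalk X x ↑f⁻¹ := by
  rw [CDiv.germOf, QuotientGroup.eq_one_iff, mem_stalkUnits_iff]

theorem isEffectiveAt_iff {D : CDiv.Divisor X} {x : X} {f : CDiv.KUnits X}
    (hf : D.1 x = CDiv.germOf X x f) : CDiv.IsEffectiveAt D x ↔ InStalk X x f := by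
  constructor
  · rintro ⟨a, ha, h⟩
    rw [hf, CDiv.germOf, CDiv.germOf, QuotientGroup.eq, mem_stalkUnits_iff] at h
    obtain ⟨-, c, hc⟩ := h
    refine ⟨a * c, ?_⟩
    rw [map_mul, hc, mul_inv_rev, inv_inv, Units.val_mul, ← mul_assoc]
    simp [Units.val_inv_eq_inv_val, mul_inv_cancel₀ ha]
  · rintro ⟨a, ha⟩
    refine ⟨a, ha ▸ f.ne_zero, hf.trans ?_⟩
    congr 1
    exact Units.ext ha.symm

/-- A divisor is trivial near every point where it is trivial. -/
theorem eq_one_nhds (D : CDiv.Divisor X) (x : X) (h : D.1 x = 1) :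
    ∃ U : X.Opens, x ∈ U ∧ ∀ y ∈ U, D.1 y = 1 := by
  obtain ⟨U, f, hx, hU⟩ := D.2 x
  rw [hU x hx, germOf_eq_one_iff] at h
  obtain ⟨V, hxV, hV⟩ := inStalk_nhds X x _ h.1
  obtain ⟨W, hxW, hW⟩ := inStalk_nhds X x _ h.2
  refine ⟨U ⊓ V ⊓ W, ⟨⟨hx, hxV⟩, hxW⟩, fun y hy => ?_⟩
  rw [hU y hy.1.1, germOf_eq_one_iff]
  exact ⟨hV y hy.1.2, hW y hy.2⟩

theorem isClosed_supp (D : CDiv.Divisor X) : IsClosed (CDiv.supp D) := by
  rw [← isOpen_compl_iff, isOpen_iff_forall_mem_open]
  intro x hx
  obtain ⟨U, hxU, hU⟩ := eq_one_nhds X D x (not_not.mp hx)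
  exact ⟨U, fun y hy => not_not.mpr (hU y hy), U.2, hxU⟩

theorem genericPoint_notMem_supp (D : CDiv.Divisor X) : genericPoint X ∉ CDiv.supp D := by
  obtain ⟨U, f, hx, hU⟩ := D.2 (genericPoint X)
  refine not_not.mpr ?_
  rw [hU _ hx, germOf_eq_one_iff]
  exact ⟨inStalk_genericPoint X _, inStalk_genericPoint X _⟩

/-- A rational function outside a local ring is outside a local ring of depth one at a generization. -/
theorem exists_depth_one [IsLocallyNoetherian X] (x : X) (f : ↑X.functionField) (h : ¬ InStalk X x f) :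
    ∃ y : X, y ⤳ x ∧ ¬ InStalk X y f ∧
      LocCoh.depth (X.presheaf.stalk y) (X.presheaf.stalk y) = 1 ∧
      (IsIntegrallyClosed (X.presheaf.stalk y) → IsDiscreteValuationRing (X.presheaf.stalk y)) := by
  obtain ⟨_, ⟨U, hU, rfl⟩, hxU, -⟩ :=
    X.isBasis_affineOpens.exists_subset_of_mem_open (Set.mem_univ x) isOpen_univ
  have : Nonempty U := ⟨⟨x, hxU⟩⟩
  have := functionField_isFractionRing_of_isAffineOpen X U hU
  have := IsLocallyNoetherian.component_noetherian ⟨U, hU⟩
  let p := hU.primeIdealOf ⟨x, hxU⟩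
  let inst0 : Algebra Γ(X, U) (X.presheaf.stalk x) := X.presheaf.algebra_section_stalk ⟨x, hxU⟩
  have inst : IsLocalization.AtPrime (X.presheaf.stalk x) p.asIdeal := hU.isLocalization_stalk ⟨x, hxU⟩
  have tower := functionField_isScalarTower X U ⟨x, hxU⟩
  have hz : ∀ a b : Γ(X, U), b ∉ p.asIdeal →
      f * algebraMap Γ(X, U) X.functionField b ≠ algebraMap Γ(X, U) X.functionField a := by
    intro a b hb e
    refine h ⟨IsLocalization.mk' (X.presheaf.stalk x) a (⟨b, hb⟩ : p.asIdeal.primeCompl), ?_⟩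
    have hne : algebraMap Γ(X, U) X.functionField b ≠ 0 := fun e' => hb (by
      rw [(map_eq_zero_iff _ (IsFractionRing.injective Γ(X, U) X.functionField)).mp e']
      exact p.asIdeal.zero_mem)
    refine mul_right_cancel₀ hne (Eq.trans ?_ e.symm)
    rw [IsScalarTower.algebraMap_apply Γ(X, U) (X.presheaf.stalk x) X.functionField,
      IsScalarTower.algebraMap_apply Γ(X, U) (X.presheaf.stalk x) X.functionField,
      ← map_mul]
    exact congrArg _ (IsLocalization.mk'_spec _ _ _)
  obtain ⟨q, hq, hqp, hqf, b, c, hb0, hb, hc⟩ := exists_prime_colon p.asIdeal f hz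
  · let y₀ : PrimeSpectrum Γ(X, U) := ⟨q, hq⟩
    have hy₀p : y₀ ⤳ p := (PrimeSpectrum.le_iff_specializes y₀ p).mp hqp
    have hyx : hU.fromSpec y₀ ⤳ x := by
      have := hy₀p.map hU.fromSpec.continuous
      rwa [hU.fromSpec_primeIdealOf] at this
    have hyU : hU.fromSpec y₀ ∈ U := hyx.mem_open U.2 hxU
    let inst2 : Algebra Γ(X, U) (X.presheaf.stalk (hU.fromSpec y₀)) :=
      X.presheaf.algebra_section_stalk ⟨hU.fromSpec y₀, hyU⟩
    have inst3 : IsLocalization.AtPrime (X.presheaf.stalk (hU.fromSpec y₀)) q :=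
      hU.isLocalization_stalk' y₀ hyU
    have tower2 := functionField_isScalarTower X U ⟨hU.fromSpec y₀, hyU⟩
    obtain ⟨h0, hm, hnc, hall⟩ := exists_local_colon q (X.presheaf.stalk (hU.fromSpec y₀)) hb0 hb hc
    refine ⟨hU.fromSpec y₀, hyx, ?_, depth_eq_one h0 hm hnc hall, fun _ => isDVR_of_colon h0 hm hnc hall⟩
    rintro ⟨t, ht⟩
    obtain ⟨⟨a, s⟩, hs⟩ := IsLocalization.surj q.primeCompl t
    refine hqf a s s.2 ?_
    rw [← ht, IsScalarTower.algebraMap_apply Γ(X, U) (X.presheaf.stalk (hU.fromSpec y₀)) X.functionField,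
      IsScalarTower.algebraMap_apply Γ(X, U) (X.presheaf.stalk (hU.fromSpec y₀)) X.functionField,
      ← map_mul, hs]

/-- Non-generic points are closed when the scheme has dimension at most one. -/
theorem isClosed_singleton_of_ne (hdim : topologicalKrullDim ↥X ≤ 1)
    (x : X) (hxη : x ≠ genericPoint X) : IsClosed ({x} : Set X) := by
  rw [← closure_subset_iff_isClosed]
  intro z hz
  by_contra hne
  have hη : genericPoint X ⤳ x := (genericPoint_spec X).specializes trivial
  have hzx : x ⤳ z := specializes_iff_mem_closure.mpr hz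
  have hl1 : closure ({z} : Set X) ⊂ closure {x} := by
    refine ⟨hzx.closure_subset, fun hsub => hne ?_⟩
    exact ((specializes_iff_closure_subset.mpr hsub).antisymm hzx).eq
  have hl2 : closure ({x} : Set X) ⊂ closure {genericPoint X} := by
    refine ⟨hη.closure_subset, fun hsub => hxη ?_⟩
    exact ((specializes_iff_closure_subset.mpr hsub).antisymm hη).eq
  let C : X → IrreducibleCloseds X := fun a => ⟨closure {a}, isIrreducible_singleton.closure, isClosed_closure⟩
  let s : LTSeries (IrreducibleCloseds X) :=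
    ((RelSeries.singleton _ (C z)).snoc (C x) hl1).snoc (C (genericPoint X))
      (by rw [RelSeries.last_snoc]; exact hl2)
  have h2 := (Order.LTSeries.length_le_krullDim s).trans hdim
  simp [s, RelSeries.snoc] at h2

theorem isClosed_singleton_of_mem_supp (hdim : topologicalKrullDim ↥X ≤ 1) (D : CDiv.Divisor X)
    (x : X) (hx : x ∈ CDiv.supp D) : IsClosed ({x} : Set X) :=
  isClosed_singleton_of_ne X hdim x fun e => genericPoint_notMem_supp X D (e ▸ hx)

theorem discreteTopology_supp [IsLocallyNoetherian X] (hdim : topologicalKrullDim ↥X ≤ 1)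
    (D : CDiv.Divisor X) : DiscreteTopology ↥(CDiv.supp D) := by
  rw [discreteTopology_iff_isOpen_singleton]
  intro ⟨x, hx⟩
  obtain ⟨_, ⟨U, hU, rfl⟩, hxU, -⟩ :=
    X.isBasis_affineOpens.exists_subset_of_mem_open (Set.mem_univ x) isOpen_univ
  let S := ↥((U : Set X) ∩ CDiv.supp D)
  have hUN : NoetherianSpace ↥(U : Set X) := by
    have := IsLocallyNoetherian.component_noetherian ⟨U, hU⟩
    exact noetherianSpace_of_isAffineOpen U hU
  have hSN : NoetherianSpace S :=
    Topology.IsInducing.noetherianSpace (i := fun a : S => (⟨a.1, a.2.1⟩ : ↥(U : Set X)))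
      (Topology.IsInducing.of_comp (by fun_prop) continuous_subtype_val Topology.IsInducing.subtypeVal)
  have hcl : ∀ a : S, IsClosed ({a} : Set S) := fun a => by
    convert (isClosed_singleton_of_mem_supp X hdim D a.1 a.2.2).preimage continuous_subtype_val
    ext b; simpa using Subtype.ext_iff
  have hfin : (Set.univ : Set S).Finite := by
    obtain ⟨T, hTf, hTc, hTi, hT⟩ := NoetherianSpace.exists_finite_set_isClosed_irreducible
      (isClosed_univ (X := S))
    rw [hT]
    refine Set.Finite.sUnion hTf fun t ht => ?_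
    have hirr := (hTi t ht).image (Subtype.val : S → X) continuous_subtype_val.continuousOn
    obtain ⟨⟨g, hgS⟩, hg⟩ := (hTi t ht).1
    obtain ⟨η, hη⟩ := QuasiSober.sober hirr.closure isClosed_closure
    have hηmem : η ∈ closure (Subtype.val '' t : Set X) := hη.mem
    have hηsupp : η ∈ CDiv.supp D := closure_minimal
      (by rintro _ ⟨a, -, rfl⟩; exact a.2.2) (isClosed_supp X D) hηmem
    refine Set.Finite.of_finite_image (Set.Finite.subset (Set.finite_singleton η) ?_) Subtype.val_injective.injOn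
    intro a ha
    have := subset_closure (s := Subtype.val '' t) ha
    rw [← hη.def, (isClosed_singleton_of_mem_supp X hdim D η hηsupp).closure_eq] at this
    exact this
  have hfin' : ((U : Set X) ∩ CDiv.supp D).Finite := Set.finite_coe_iff.mp (Set.finite_univ_iff.mp hfin)
  let F : Set X := ((U : Set X) ∩ CDiv.supp D) \ {x}
  have hF : IsClosed F := by
    rw [← Set.biUnion_of_singleton F]
    exact (hfin'.subset Set.sdiff_subset).isClosed_biUnion fun a ha =>
      isClosed_singleton_of_mem_supp X hdim D a ha.1.2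
  refine ⟨(U : Set X) \ F, U.2.sdiff hF, Set.ext fun a => ?_⟩
  constructor
  · rintro ⟨haU, haF⟩
    by_contra hne
    exact haF ⟨⟨haU, a.2⟩, fun e => hne (Subtype.ext e)⟩
  · rintro rfl
    exact ⟨hxU, fun hF' => hF'.2 rfl⟩

/-- Divisors with prescribed germs on a closed discrete subset of a curve. -/
theorem exists_divisor [IsLocallyNoetherian X] (hdim : topologicalKrullDim ↥X ≤ 1) (E : Set X)
    (hE : IsClosed E) (hEd : DiscreteTopology ↥E) (d : ∀ x : X, CDiv.Germ X x) :
    ∃ D : CDiv.Divisor X, (∀ x ∈ E, D.1 x = d x) ∧ ∀ x ∉ E, D.1 x = 1 := by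
  classical
  let g : ∀ x : X, CDiv.Germ X x := fun x => if x ∈ E then d x else 1
  have hg : g ∈ CDiv.divisorGroup X := by
    intro x
    by_cases hx : x ∈ E
    swap
    · refine ⟨⟨Eᶜ, hE.isOpen_compl⟩, 1, hx, fun y hy => ?_⟩
      show (if y ∈ E then d y else 1) = _
      rw [if_neg (show y ∉ E from hy)]
      exact (germOf_eq_one_iff X).mpr ⟨⟨1, map_one _⟩, ⟨1, by simp⟩⟩ |>.symm
    obtain ⟨f, hf⟩ := QuotientGroup.mk_surjective (d x)
    have hS := isClosed_supp X (CDiv.div f)
    have hSd := discreteTopology_supp X hdim (CDiv.div f)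
    obtain ⟨V, hV, hVE⟩ := isOpen_induced_iff.mp (isOpen_discrete ({⟨x, hx⟩} : Set E))
    have hxV : x ∈ V := by
      have : (⟨x, hx⟩ : E) ∈ Subtype.val ⁻¹' V := by rw [hVE]; rfl
      exact this
    have hR : IsClosed (CDiv.supp (CDiv.div f) \ {x}) := by
      by_cases hxS : x ∈ CDiv.supp (CDiv.div f)
      · obtain ⟨O, hO, hOE⟩ := isOpen_induced_iff.mp
          (isOpen_discrete ({⟨x, hxS⟩} : Set (CDiv.supp (CDiv.div f))))
        have heq : CDiv.supp (CDiv.div f) \ {x} = CDiv.supp (CDiv.div f) ∩ Oᶜ := by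
          ext a
          refine and_congr_right fun ha => not_congr ?_
          have := Set.ext_iff.mp hOE ⟨a, ha⟩
          simp only [Set.mem_preimage, Set.mem_singleton_iff, Subtype.mk.injEq] at this
          exact this.symm
        rw [heq]; exact hS.inter hO.isClosed_compl
      · rwa [Set.sdiff_singleton_eq_self hxS]
    refine ⟨⟨V \ (CDiv.supp (CDiv.div f) \ {x}), hV.sdiff hR⟩, f, ⟨hxV, fun h => h.2 rfl⟩,
      fun y ⟨hyV, hyS⟩ => ?_⟩
    show (if y ∈ E then d y else 1) = _
    by_cases hy : y = x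
    · subst hy; rw [if_pos hx, ← hf]
    · have hyE : y ∉ E := fun hyE => hy (by
        have : (⟨y, hyE⟩ : E) ∈ Subtype.val ⁻¹' V := hyV
        rw [hVE] at this
        exact congrArg Subtype.val this)
      rw [if_neg hyE]
      exact (not_not.mp fun h => hyS ⟨h, hy⟩).symm
  exact ⟨⟨g, hg⟩, fun x hx => if_pos hx, fun x hx => if_neg hx⟩

end Groth.Agent.CDivLib
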